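/-
Sections over affine opens and direct images along affine morphisms commute with colimits of
quasi-coherent modules.
-/
import Groth.Agent.QCohLib.FiniteType
import Groth.Agent.SiteBase.FreeMod
import Groth.Prelude.Def_RelSpec2

set_option autoImplicit false
set_option backward.isDefEq.respectTransparency false
set_option backward.isDefEq.respectTransparency.types false
set_option linter.style.haveILetI false

universe u

open CategoryTheory CategoryTheory.Limits AlgebraicGeometry TopologicalSpace Opposite
open Groth.Agent.CohBase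

noncomputable section

namespace Groth.Agent.DirImgLib

variable {X S : Scheme.{u}} {J : Type u} [SmallCategory J] (D : J ⥤ X.Modules)

/-- Sections over an open, as abelian groups. -/
abbrev secAb (W : X.Opens) : X.Modules ⥤ AddCommGrpCat.{u} :=
  Scheme.Modules.toPresheaf X ⋙ (evaluation _ _).obj (op W)

theorem preservesColimit_secAb (hD : ∀ j, Coh.IsQCoh (D.obj j)) {W : X.Opens} (hW : IsAffineOpen W) :
    PreservesColimit D (secAb W) := by
  let R := Γ(X, W)
  let r := Scheme.Modules.restrictFunctor hW.fromSpec
  haveI : PreservesColimitsOfSize.{u, u} r :=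
    (Scheme.Modules.restrictAdjunction hW.fromSpec).leftAdjoint_preservesColimits
  have hiso : ∀ j, IsIso ((r.obj (D.obj j)).fromTildeΓ) := fun j =>
    haveI := hD j
    (isIso_fromTildeΓ_iff_isLocalizing _).mpr (isLocalizing_restrict (D.obj j) hW)
  haveI : (tilde.functor R).Full := tilde.adjunction.fullyFaithfulLOfIsIsoUnit.full
  haveI : (tilde.functor R).Faithful := tilde.adjunction.fullyFaithfulLOfIsIsoUnit.faithful
  haveI : PreservesColimitsOfShape J (tilde.functor R) := tilde.adjunction.leftAdjoint_preservesColimits.1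
  let α : ((D ⋙ r) ⋙ moduleSpecΓFunctor) ⋙ tilde.functor R ≅ D ⋙ r :=
    NatIso.ofComponents (fun j => @asIso _ _ _ _ _ (hiso j))
      fun f => Scheme.Modules.fromTildeΓNatTrans.naturality (r.map (D.map f))
  haveI : PreservesColimit (D ⋙ r) moduleSpecΓFunctor := by
    let K := (D ⋙ r) ⋙ moduleSpecΓFunctor
    let c := (tilde.functor R).mapCocone (colimit.cocone K)
    have hc : IsColimit c := isColimitOfPreserves _ (colimit.isColimit K)
    let c' : Cocone (D ⋙ r) := (Cocone.precompose α.inv).obj c
    have hc' : IsColimit c' := (IsColimit.precomposeHomEquiv α.symm c).symm hc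
    refine preservesColimit_of_preserves_colimit_cocone hc' (IsColimit.ofIsoColimit (colimit.isColimit K)
      (Cocone.ext (tilde.toTildeΓNatIso.app (colimit K)) fun j => ?_))
    have h1 := (tilde.toTildeΓNatIso (R := R)).hom.naturality (colimit.ι K j)
    refine h1.trans ?_
    show tilde.toTildeΓNatIso.hom.app (K.obj j) ≫ moduleSpecΓFunctor.map ((tilde.functor R).map (colimit.ι K j)) =
      moduleSpecΓFunctor.map (inv (r.obj (D.obj j)).fromTildeΓ ≫ (tilde.functor R).map (colimit.ι K j))
    rw [Functor.map_comp]
    congr 1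
    haveI := hiso j
    rw [← cancel_mono (moduleSpecΓFunctor.map (r.obj (D.obj j)).fromTildeΓ), ← Functor.map_comp,
      IsIso.inv_hom_id, CategoryTheory.Functor.map_id]
    exact tilde.adjunction.right_triangle_components (r.obj (D.obj j))
  let F' := r ⋙ moduleSpecΓFunctor ⋙ forget₂ (ModuleCat.{u} R) AddCommGrpCat.{u}
  haveI : PreservesColimit D (r ⋙ moduleSpecΓFunctor) := inferInstance
  haveI : PreservesColimit D F' :=
    inferInstanceAs (PreservesColimit D ((r ⋙ moduleSpecΓFunctor) ⋙ forget₂ (ModuleCat.{u} R) AddCommGrpCat.{u}))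
  have e : hW.fromSpec ''ᵁ (⊤ : (Spec R).Opens) = W := by
    rw [Scheme.Hom.image_top_eq_opensRange, hW.opensRange_fromSpec]
  let β : F' ≅ secAb W := NatIso.ofComponents
    (fun M => M.presheaf.mapIso (eqToIso e.symm).op) fun {M N} φ => (φ.mapPresheaf.naturality _).symm
  exact preservesColimit_of_natIso D β

variable (f : X ⟶ S) [IsAffineHom f]

/-- Abelian sheaves underlying modules on `S` over the direct image algebra. -/
abbrev dirAb : X.Modules ⥤ CohBase.AbSh S :=
  AMod.dirImg f ⋙ SheafOfModules.toSheaf (AMod.ringSheaf (RelSpec.QCAlg.directImage f))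

theorem preservesColimit_dirAb (hD : ∀ j, Coh.IsQCoh (D.obj j)) : PreservesColimit D (dirAb f) := by
  let G := sheafToPresheaf (Opens.grothendieckTopology S) AddCommGrpCat.{u}
  let c := colimit.cocone D
  let cQ := (dirAb f).mapCocone c
  let K := (D ⋙ dirAb f) ⋙ G
  let desc := colimit.desc K (G.mapCocone cQ)
  have hbij : ∀ U : S.Opens, IsAffineOpen U → IsIso (desc.app (op U)) := fun U hU => by
    haveI := preservesColimit_secAb D hD (hU.preimage f)
    let ev := (evaluation (S.Opens)ᵒᵖ AddCommGrpCat.{u}).obj (op U)
    have h1 : IsColimit (ev.mapCocone (colimit.cocone K)) := isColimitOfPreserves ev (colimit.isColimit K)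
    have h2 : IsColimit ((secAb (f ⁻¹ᵁ U)).mapCocone c) := isColimitOfPreserves _ (colimit.isColimit D)
    have hd : desc.app (op U) = h1.desc ((secAb (f ⁻¹ᵁ U)).mapCocone c) := h1.hom_ext fun j => by
      refine (congrArg (fun t => NatTrans.app t (op U)) (colimit.ι_desc (G.mapCocone cQ) j)).trans ?_
      exact (h1.fac ((secAb (f ⁻¹ᵁ U)).mapCocone c) j).symm
    rw [hd]
    exact (h1.coconePointUniqueUpToIso h2).isIso_hom
  haveI : Presheaf.IsLocallyInjective (Opens.grothendieckTopology S) desc := ⟨fun {U} s t h x hx => by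
    obtain ⟨V, hV, hxV, hVU⟩ := exists_isAffineOpen_mem_and_subset (X := S) (U := U.unop) hx
    haveI := hbij V hV
    refine ⟨V, homOfLE hVU, ?_, hxV⟩
    apply ((ConcreteCategory.bijective_of_isIso (desc.app (op V)))).1
    refine (ConcreteCategory.congr_hom (desc.naturality (homOfLE hVU).op) s).trans ?_
    refine Eq.trans ?_ (ConcreteCategory.congr_hom (desc.naturality (homOfLE hVU).op) t).symm
    exact congrArg ((G.mapCocone cQ).pt.map (homOfLE hVU).op) h⟩
  haveI : Presheaf.IsLocallySurjective (Opens.grothendieckTopology S) desc := ⟨fun {U} s x hx => by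
    obtain ⟨V, hV, hxV, hVU⟩ := exists_isAffineOpen_mem_and_subset (X := S) (U := U) hx
    haveI := hbij V hV
    exact ⟨V, homOfLE hVU, (ConcreteCategory.bijective_of_isIso (desc.app (op V))).2 _, hxV⟩⟩
  have hW := (Opens.grothendieckTopology S).W_of_isLocallyBijective desc
  rw [GrothendieckTopology.W_iff] at hW
  haveI := hW
  let P := presheafToSheaf (Opens.grothendieckTopology S) AddCommGrpCat.{u}
  have h1 : IsColimit (P.mapCocone (colimit.cocone K)) := isColimitOfPreserves P (colimit.isColimit K)
  have h2 : IsColimit (P.mapCocone (G.mapCocone cQ)) :=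
    h1.ofIsoColimit (Cocone.ext (asIso (P.map desc)) fun j => by
      show P.map _ ≫ P.map desc = P.map _
      rw [← P.map_comp]
      exact congrArg P.map (colimit.ι_desc (G.mapCocone cQ) j))
  let ε := (sheafificationAdjunction (Opens.grothendieckTopology S) AddCommGrpCat.{u}).counit
  refine preservesColimit_of_preserves_colimit_cocone (colimit.isColimit D) ?_
  exact ((IsColimit.precomposeHomEquiv (Functor.isoWhiskerLeft (D ⋙ dirAb f) (asIso ε)).symm _).symm h2).ofIsoColimit
    (Cocone.ext ((asIso ε).app cQ.pt) fun j => by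
      show (inv ε).app _ ≫ _ ≫ ε.app _ = _
      erw [ε.naturality]
      rw [← Category.assoc]
      exact (congrArg (· ≫ _) (congrArg (fun t => NatTrans.app t _) (IsIso.inv_hom_id ε))).trans (Category.id_comp _))

/-- `AMod.dirImg f` preserves colimits of diagrams of quasi-coherent modules. -/
theorem preservesColimit_dirImg (hD : ∀ j, Coh.IsQCoh (D.obj j)) : PreservesColimit D (AMod.dirImg f) := by
  haveI := preservesColimit_dirAb D f hD
  haveI : ReflectsColimit (D ⋙ AMod.dirImg f) (SheafOfModules.toSheaf (AMod.ringSheaf (RelSpec.QCAlg.directImage f))) :=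
    reflectsColimit_of_reflectsIsomorphisms _ _
  exact preservesColimit_of_reflects_of_preserves (AMod.dirImg f)
    (SheafOfModules.toSheaf (AMod.ringSheaf (RelSpec.QCAlg.directImage f)))

end Groth.Agent.DirImgLib
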