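/-
Direct image along an affine morphism is fully faithful on quasi-coherent modules, seen as modules
over the direct image algebra.
-/
import Groth.Agent.QCohLib.Push
import Groth.Agent.QCohLib.Criterion

set_option autoImplicit false
set_option backward.isDefEq.respectTransparency false
set_option backward.isDefEq.respectTransparency.types false
set_option linter.style.haveILetI false

universe u

open CategoryTheory CategoryTheory.Limits AlgebraicGeometry TopologicalSpace Opposite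
open Groth.Agent.CohBase

noncomputable section

namespace Groth.Agent.DirImgLib

variable {X S : Scheme.{u}}

/-- Restriction of sections. -/
abbrev res (M : X.Modules) {V V' : X.Opens} (h : V' ≤ V) (s : Γ(M, V)) : Γ(M, V') :=
  M.presheaf.map (homOfLE h).op s

/-- Restriction of functions. -/
abbrev rr {V V' : X.Opens} (h : V' ≤ V) (a : Γ(X, V)) : Γ(X, V') := X.presheaf.map (homOfLE h).op a

theorem rr_trans {V V' V'' : X.Opens} (h : V' ≤ V) (h' : V'' ≤ V') (a : Γ(X, V)) :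
    rr h' (rr h a) = rr (h'.trans h) a := by
  simp only [rr, ← ConcreteCategory.comp_apply, ← Functor.map_comp]
  rfl

theorem res_smul (M : X.Modules) {V V' : X.Opens} (h : V' ≤ V) (a : Γ(X, V)) (s : Γ(M, V)) :
    res M h (a • s) = rr h a • res M h s :=
  Scheme.Modules.map_smul M (homOfLE h) a s

theorem res_res (M : X.Modules) {V V' V'' : X.Opens} (h : V' ≤ V) (h' : V'' ≤ V') (s : Γ(M, V)) :
    res M h' (res M h s) = res M (h'.trans h) s := restr_trans M h h' s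

/-- Additive maps on sections over preimages, compatible with restriction and scalars. -/
structure Data (f : X ⟶ S) (F G : X.Modules) where
  ψ : ∀ U : S.Opens, Γ(F, f ⁻¹ᵁ U) →+ Γ(G, f ⁻¹ᵁ U)
  nat : ∀ {U U' : S.Opens} (h : U' ≤ U) (s : Γ(F, f ⁻¹ᵁ U)),
    res G ((Opens.map f.base).map (homOfLE h)).le (ψ U s) = ψ U' (res F ((Opens.map f.base).map (homOfLE h)).le s)
  lin : ∀ (U : S.Opens) (a : Γ(X, f ⁻¹ᵁ U)) (s : Γ(F, f ⁻¹ᵁ U)), ψ U (a • s) = a • ψ U s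

namespace Data

variable {f : X ⟶ S} {F G : X.Modules} (d : Data f F G) [IsAffineHom f] [Coh.IsQCoh F]

/-- The comparison over a single affine open. -/
theorem key_affine {U : S.Opens} (hU : IsAffineOpen U) {V : X.Opens} (hV : V ≤ f ⁻¹ᵁ U) (a a' : Γ(X, V))
    (s s' : Γ(F, f ⁻¹ᵁ U)) (e : a • res F hV s = a' • res F hV s') :
    a • res G hV (d.ψ U s) = a' • res G hV (d.ψ U s') := by
  have hW := hU.preimage f
  have hx : ∀ x : V, ∃ g : Γ(X, f ⁻¹ᵁ U), X.basicOpen g ≤ V ∧ x.1 ∈ X.basicOpen g := fun x =>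
    hW.exists_basicOpen_le ⟨x.1, x.2⟩ (hV x.2) |>.imp fun g hg => hg
  choose g hg hxg using hx
  refine QCohLib.eq_of_cover G hg (fun x hx => Opens.mem_iSup.2 ⟨⟨x, hx⟩, hxg ⟨x, hx⟩⟩) _ _ fun x => ?_
  show res G (hg x) _ = res G (hg x) _
  let D := X.basicOpen (g x)
  have hDW : D ≤ f ⁻¹ᵁ U := X.basicOpen_le _
  haveI := hW.isLocalization_basicOpen (g x)
  obtain ⟨n, b, hb⟩ := IsLocalization.Away.surj (g x) (rr (hg x) a)
  obtain ⟨n', b', hb'⟩ := IsLocalization.Away.surj (g x) (rr (hg x) a')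
  change rr (hg x) a * (rr hDW (g x)) ^ n = rr hDW b at hb
  change rr (hg x) a' * (rr hDW (g x)) ^ n' = rr hDW b' at hb'
  let w : Γ(X, D) := rr hDW (g x)
  have hw : IsUnit (w ^ (n + n')) := ((X.toRingedSpace.isUnit_res_basicOpen (g x))).pow _
  have push : ∀ (M : X.Modules) (t t' : Γ(M, f ⁻¹ᵁ U)),
      res M hDW ((g x ^ n' * b) • t - (g x ^ n * b') • t') =
        w ^ (n + n') • (res M (hg x) (a • res M hV t) - res M (hg x) (a' • res M hV t')) := by
    intro M t t'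
    simp only [res] at *
    rw [map_sub]
    show res M hDW _ - res M hDW _ = w ^ (n + n') • (res M (hg x) _ - res M (hg x) _)
    rw [res_smul, res_smul, res_smul, res_smul, res_res, res_res, smul_sub, smul_smul, smul_smul]
    congr 2
    · rw [show rr hDW (g x ^ n' * b) = w ^ n' * rr hDW b by simp [rr, w], ← hb, pow_add]; ring
    · rw [show rr hDW (g x ^ n * b') = w ^ n * rr hDW b' by simp [rr, w], ← hb', pow_add]; ring
  have h0 : res F hDW ((g x ^ n' * b) • s - (g x ^ n * b') • s') = 0 := by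
    rw [push, ← e, sub_self, smul_zero]
  obtain ⟨m, hm⟩ := exists_pow_zero F hW (g x) rfl _ h0
  rw [sc_apply] at hm
  have hm' := congrArg (d.ψ U) hm
  rw [d.lin, map_zero, map_sub, d.lin, d.lin] at hm'
  have hm'' := congrArg (res G hDW) hm'
  rw [res_smul, push, smul_smul, show res G hDW 0 = 0 from map_zero _] at hm''
  have hu : IsUnit (rr hDW (X.presheaf.map (homOfLE (le_refl (f ⁻¹ᵁ U))).op (g x ^ m)) * w ^ (n + n')) := by
    refine IsUnit.mul ?_ hw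
    show IsUnit (rr hDW (rr le_rfl (g x ^ m)))
    rw [rr_trans, show rr hDW (g x ^ m) = w ^ m from map_pow _ _ _]
    exact (X.toRingedSpace.isUnit_res_basicOpen (g x)).pow _
  exact sub_eq_zero.1 (hu.smul_eq_zero.1 hm'')

/-- The comparison over arbitrary opens of the base. -/
theorem key {U U' : S.Opens} {V : X.Opens} (hV : V ≤ f ⁻¹ᵁ U) (hV' : V ≤ f ⁻¹ᵁ U') (a a' : Γ(X, V))
    (s : Γ(F, f ⁻¹ᵁ U)) (s' : Γ(F, f ⁻¹ᵁ U')) (e : a • res F hV s = a' • res F hV' s') :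
    a • res G hV (d.ψ U s) = a' • res G hV' (d.ψ U' s') := by
  have hx : ∀ x : V, ∃ U'' : S.Opens, IsAffineOpen U'' ∧ f x.1 ∈ U'' ∧ U'' ≤ U ⊓ U' := fun x => by
    obtain ⟨U'', h1, h2, h3⟩ := exists_isAffineOpen_mem_and_subset (X := S) (x := f x.1) (U := U ⊓ U') ⟨hV x.2, hV' x.2⟩
    exact ⟨U'', h1, h2, h3⟩
  choose T hT hxT hTle using hx
  refine QCohLib.eq_of_cover G (W := fun x => V ⊓ f ⁻¹ᵁ T x) (fun x => inf_le_left)
    (fun x hx => Opens.mem_iSup.2 ⟨⟨x, hx⟩, hx, hxT ⟨x, hx⟩⟩) _ _ fun x => ?_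
  have h1 : f ⁻¹ᵁ T x ≤ f ⁻¹ᵁ U := ((Opens.map f.base).map (homOfLE ((hTle x).trans inf_le_left))).le
  have h2 : f ⁻¹ᵁ T x ≤ f ⁻¹ᵁ U' := ((Opens.map f.base).map (homOfLE ((hTle x).trans inf_le_right))).le
  have hl : V ⊓ f ⁻¹ᵁ T x ≤ f ⁻¹ᵁ T x := inf_le_right
  have he := congrArg (res F (inf_le_left : V ⊓ f ⁻¹ᵁ T x ≤ V)) e
  rw [res_smul, res_smul, res_res, res_res, ← res_res F h1 hl, ← res_res F h2 hl] at he
  have := d.key_affine (hT x) hl _ _ _ _ he
  rw [← d.nat ((hTle x).trans inf_le_left) s, ← d.nat ((hTle x).trans inf_le_right) s', res_res, res_res] at this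
  show res G _ _ = res G _ _
  rw [res_smul, res_smul, res_res, res_res]
  exact this

/-- Two sections of `F` near a point, as common multiples of sections over an affine open of `S`. -/
theorem exists_rep {V : X.Opens} (s₁ s₂ : Γ(F, V)) (x : X) (hx : x ∈ V) :
    ∃ (U : S.Opens) (D : X.Opens) (h1 : D ≤ V) (h2 : D ≤ f ⁻¹ᵁ U) (_ : x ∈ D) (a : Γ(X, D))
      (t₁ t₂ : Γ(F, f ⁻¹ᵁ U)), res F h1 s₁ = a • res F h2 t₁ ∧ res F h1 s₂ = a • res F h2 t₂ := by
  obtain ⟨U, hU, hxU, -⟩ := exists_isAffineOpen_mem_and_subset (X := S) (x := f x) (U := ⊤) trivial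
  have hW := hU.preimage f
  obtain ⟨g, hg, hxg⟩ := hW.exists_basicOpen_le (V := V) ⟨x, hx⟩ hxU
  obtain ⟨n₁, t₁, e₁⟩ := exists_pow_extend F hW g rfl (res F hg s₁)
  obtain ⟨n₂, t₂, e₂⟩ := exists_pow_extend F hW g rfl (res F hg s₂)
  rw [sc_apply] at e₁ e₂
  change res F (X.basicOpen_le g) t₁ = rr (X.basicOpen_le g) (g ^ n₁) • res F hg s₁ at e₁
  change res F (X.basicOpen_le g) t₂ = rr (X.basicOpen_le g) (g ^ n₂) • res F hg s₂ at e₂
  have hu : IsUnit (rr (X.basicOpen_le g) g : Γ(X, X.basicOpen g)) := X.toRingedSpace.isUnit_res_basicOpen g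
  obtain ⟨w, hw⟩ := hu.pow (n₁ + n₂)
  refine ⟨U, X.basicOpen g, hg, X.basicOpen_le g, hxg, (↑w⁻¹ : Γ(X, X.basicOpen g)), g ^ n₂ • t₁, g ^ n₁ • t₂, ?_, ?_⟩
  · rw [res_smul]
    rw [e₁]
    rw [smul_smul, smul_smul]
    refine (one_smul _ _).symm.trans (congrArg (· • res F hg s₁) ?_)
    rw [← w.inv_mul, hw, mul_assoc]
    congr 1
    show _ = rr _ (g ^ n₂) * rr _ (g ^ n₁)
    simp only [rr, map_pow]
    rw [← pow_add, add_comm n₂]
  · rw [res_smul]
    rw [e₂]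
    rw [smul_smul, smul_smul]
    refine (one_smul _ _).symm.trans (congrArg (· • res F hg s₂) ?_)
    rw [← w.inv_mul, hw, mul_assoc]
    congr 1
    show _ = rr _ (g ^ n₁) * rr _ (g ^ n₂)
    simp only [rr, map_pow]
    rw [← pow_add]

/-- `t` is the image of `s₀` under the morphism induced by `d`. -/
def Rel {V : X.Opens} (s₀ : Γ(F, V)) (t : Γ(G, V)) : Prop :=
  ∀ (U : S.Opens) (V' : X.Opens) (h1 : V' ≤ V) (h2 : V' ≤ f ⁻¹ᵁ U) (a : Γ(X, V')) (s : Γ(F, f ⁻¹ᵁ U)),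
    res F h1 s₀ = a • res F h2 s → res G h1 t = a • res G h2 (d.ψ U s)

theorem rel_unique {V : X.Opens} {s₀ : Γ(F, V)} {t t' : Γ(G, V)} (h : d.Rel s₀ t) (h' : d.Rel s₀ t') : t = t' := by
  choose U D h1 h2 hxD a t₁ t₂ e₁ e₂ using fun x : V => exists_rep (f := f) s₀ s₀ x.1 x.2
  refine QCohLib.eq_of_cover G h1 (fun x hx => Opens.mem_iSup.2 ⟨⟨x, hx⟩, hxD ⟨x, hx⟩⟩) _ _ fun x => ?_
  exact (h _ _ (h1 x) (h2 x) _ _ (e₁ x)).trans (h' _ _ (h1 x) (h2 x) _ _ (e₁ x)).symm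

theorem exists_rel {V : X.Opens} (s₀ : Γ(F, V)) : ∃ t, d.Rel s₀ t := by
  choose U D h1 h2 hxD a t₁ t₂ e₁ e₂ using fun x : V => exists_rep (f := f) s₀ s₀ x.1 x.2
  obtain ⟨t, ht, -⟩ := TopCat.Sheaf.existsUnique_gluing' ⟨G.presheaf, G.isSheaf⟩ D V (fun x => homOfLE (h1 x))
    (fun x hx => Opens.mem_iSup.2 ⟨⟨x, hx⟩, hxD ⟨x, hx⟩⟩)
    (fun x => a x • res G (h2 x) (d.ψ (U x) (t₁ x))) (fun x y => by
      show res G inf_le_left _ = res G inf_le_right _
      rw [res_smul, res_smul, res_res, res_res]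
      refine d.key _ _ _ _ _ _ ?_
      have hx := congrArg (res F (inf_le_left : D x ⊓ D y ≤ D x)) (e₁ x)
      have hy := congrArg (res F (inf_le_right : D x ⊓ D y ≤ D y)) (e₁ y)
      rw [res_smul, res_res, res_res] at hx hy
      exact hx.symm.trans hy)
  refine ⟨t, fun U' V' k1 k2 b s e => ?_⟩
  refine QCohLib.eq_of_cover G (W := fun x => V' ⊓ D x) (fun x => inf_le_left)
    (fun x hx => Opens.mem_iSup.2 ⟨⟨x, k1 hx⟩, hx, hxD ⟨x, k1 hx⟩⟩) _ _ fun x => ?_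
  show res G _ _ = res G _ _
  have ht' := congrArg (res G (inf_le_right : V' ⊓ D x ≤ D x)) (ht x)
  change res G _ (res G (h1 x) t) = _ at ht'
  rw [res_smul, res_res, res_res] at ht'
  rw [res_res, ht', res_smul, res_res]
  refine d.key _ _ _ _ _ _ ?_
  have hx := congrArg (res F (inf_le_right : V' ⊓ D x ≤ D x)) (e₁ x)
  have hy := congrArg (res F (inf_le_left : V' ⊓ D x ≤ V')) e
  rw [res_smul, res_res, res_res] at hx hy
  exact hx.symm.trans hy

/-- The induced map on sections. -/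
def app (V : X.Opens) (s₀ : Γ(F, V)) : Γ(G, V) := (d.exists_rel s₀).choose

theorem app_rel {V : X.Opens} (s₀ : Γ(F, V)) : d.Rel s₀ (d.app V s₀) := (d.exists_rel s₀).choose_spec

theorem app_res {V V' : X.Opens} (h : V' ≤ V) (s₀ : Γ(F, V)) : d.app V' (res F h s₀) = res G h (d.app V s₀) := by
  refine d.rel_unique (d.app_rel _) fun U W h1 h2 a s e => ?_
  rw [res_res] at e
  rw [res_res]
  exact d.app_rel s₀ U W _ h2 a s e

theorem app_of_rep {V : X.Opens} {s₀ : Γ(F, V)} {t : Γ(G, V)}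
    (h : ∀ x : V, ∃ (U : S.Opens) (D : X.Opens) (h1 : D ≤ V) (h2 : D ≤ f ⁻¹ᵁ U) (_ : x.1 ∈ D) (a : Γ(X, D))
      (s : Γ(F, f ⁻¹ᵁ U)), res F h1 s₀ = a • res F h2 s ∧ res G h1 t = a • res G h2 (d.ψ U s)) :
    d.app V s₀ = t := by
  choose U D h1 h2 hxD a s e₁ e₂ using h
  refine QCohLib.eq_of_cover G h1 (fun x hx => Opens.mem_iSup.2 ⟨⟨x, hx⟩, hxD ⟨x, hx⟩⟩) _ _ fun x => ?_
  exact (d.app_rel s₀ _ _ (h1 x) (h2 x) _ _ (e₁ x)).trans (e₂ x).symm

theorem app_add {V : X.Opens} (s₁ s₂ : Γ(F, V)) : d.app V (s₁ + s₂) = d.app V s₁ + d.app V s₂ := by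
  refine d.app_of_rep fun x => ?_
  obtain ⟨U, D, h1, h2, hxD, a, t₁, t₂, e₁, e₂⟩ := exists_rep (f := f) s₁ s₂ x.1 x.2
  refine ⟨U, D, h1, h2, hxD, a, t₁ + t₂, ?_, ?_⟩
  · simp only [res, map_add, smul_add] at *
    rw [e₁, e₂]
  · have k₁ := d.app_rel s₁ U D h1 h2 a t₁ e₁
    have k₂ := d.app_rel s₂ U D h1 h2 a t₂ e₂
    simp only [res, map_add, smul_add] at *
    rw [k₁, k₂]

theorem app_smul {V : X.Opens} (r : Γ(X, V)) (s₀ : Γ(F, V)) : d.app V (r • s₀) = r • d.app V s₀ := by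
  refine d.app_of_rep fun x => ?_
  obtain ⟨U, D, h1, h2, hxD, a, t₁, t₂, e₁, e₂⟩ := exists_rep (f := f) s₀ s₀ x.1 x.2
  refine ⟨U, D, h1, h2, hxD, rr h1 r * a, t₁, ?_, ?_⟩
  · rw [res_smul, e₁, smul_smul]
  · rw [res_smul, d.app_rel s₀ U D h1 h2 a t₁ e₁, smul_smul]

theorem app_preimage (U : S.Opens) (s : Γ(F, f ⁻¹ᵁ U)) : d.app (f ⁻¹ᵁ U) s = d.ψ U s := by
  refine d.app_of_rep fun x => ⟨U, f ⁻¹ᵁ U, le_rfl, le_rfl, x.2, 1, s, ?_, ?_⟩ <;> rw [one_smul]

/-- The induced morphism of modules. -/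
def hom : F ⟶ G :=
  ⟨PresheafOfModules.homMk
    { app := fun V => AddCommGrpCat.ofHom (AddMonoidHom.mk' (d.app V.unop) (d.app_add))
      naturality := fun V V' h => by
        ext s
        exact d.app_res h.unop.le s }
    (fun V r s => d.app_smul r s)⟩

theorem hom_app (V : X.Opens) (s : Γ(F, V)) : d.hom.app V s = d.app V s := rfl

end Data

end Groth.Agent.DirImgLib
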